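import Cfsg.Agent.JankoUnique.Case2.Data

/-! Generated: checks of the rows. -/

set_option autoImplicit false
set_option maxRecDepth 100000

namespace CfsgLib.JankoUnique.Case2

open CfsgLib.CosetEnum

theorem rows0 : allFrom (checkRow epF (fun x => x ^^^ 1) 10240 8 nodeF TF tfF 1463) 0 256 = true := by
  decide +kernel

theorem rows256 : allFrom (checkRow epF (fun x => x ^^^ 1) 10240 8 nodeF TF tfF 1463) 256 256 = true := by
  decide +kernel

theorem rows512 : allFrom (checkRow epF (fun x => x ^^^ 1) 10240 8 nodeF TF tfF 1463) 512 256 = true := by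
  decide +kernel

theorem rows768 : allFrom (checkRow epF (fun x => x ^^^ 1) 10240 8 nodeF TF tfF 1463) 768 256 = true := by
  decide +kernel

theorem rows1024 : allFrom (checkRow epF (fun x => x ^^^ 1) 10240 8 nodeF TF tfF 1463) 1024 256 = true := by
  decide +kernel

theorem rows1280 : allFrom (checkRow epF (fun x => x ^^^ 1) 10240 8 nodeF TF tfF 1463) 1280 183 = true := by
  decide +kernel

end CfsgLib.JankoUnique.Case2
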